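import Cfsg.Agent.Lib.J4Pres.Lvl1.Data

/-! Generated certificate: the checks. -/

set_option autoImplicit false
set_option maxRecDepth 20000

namespace Cfsg.Lib.J4Pres.Lvl1

theorem step_valid : step.Valid where
  pos := by decide +kernel
  defs := by decide +kernel
  labs := by decide +kernel
  steps := by decide +kernel
  closed := by decide +kernel

end Cfsg.Lib.J4Pres.Lvl1
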