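import Cfsg.Agent.Lib.CosetEnum.Signed.Defs
import Cfsg.Agent.Lib.J4Pres.Defs
import Cfsg.Agent.Lib.J4Pres.Lvl1.TabF
import Cfsg.Agent.Lib.J4Pres.Lvl1.TabC
import Cfsg.Agent.Lib.J4Pres.Lvl1.TabZ
import Cfsg.Agent.Lib.J4Pres.Lvl1.TabP

/-! Generated certificate. -/

set_option autoImplicit false
set_option maxRecDepth 20000

namespace Cfsg.Lib.J4Pres.Lvl1

open CosetEnum

/-- The relators in use. -/
def relWords : List (List Nat) :=
  [[11, 11, 11],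
    [9, 9, 9],
    [8, 8, 8],
    [7, 7, 7],
    [6, 6, 6],
    [10, 10, 9, 7, 2],
    [11, 8, 5, 8, 1, 2],
    [11, 8, 5, 4, 3, 10],
    [11, 0, 7, 0, 1, 6],
    [11, 8, 5, 10, 10, 9, 2],
    [10, 10, 10, 9, 2, 4, 9],
    [9, 8, 0, 9, 7, 3, 7],
    [11, 8, 7, 6, 11, 8, 7, 6],
    [11, 8, 5, 7, 11, 8, 5, 7],
    [11, 7, 6, 1, 11, 7, 6, 1],
    [11, 9, 7, 3, 4, 3, 4, 4, 4],
    [11, 9, 4, 6, 7, 9, 7, 3, 8],
    [11, 0, 9, 1, 3, 0, 9, 1, 3],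
    [11, 9, 7, 3, 7, 0, 1, 9, 1, 3],
    [11, 8, 10, 10, 2, 4, 4, 3, 10, 10],
    [11, 8, 4, 4, 9, 9, 7, 3, 0, 1],
    [11, 2, 11, 2, 11, 2, 11, 2, 11, 2],
    [10, 10, 10, 9, 7, 3, 4, 4, 4, 3],
    [7, 0, 7, 0, 7, 0, 7, 0, 7, 0],
    [9, 7, 3, 7, 0, 1, 6, 9, 7, 3, 6],
    [11, 8, 4, 9, 9, 7, 3, 3, 10, 10, 10, 2],
    [9, 7, 3, 6, 9, 1, 9, 7, 3, 6, 9, 1],
    [11, 8, 3, 10, 10, 9, 7, 3, 0, 7, 6, 9, 1, 3],
    [10, 10, 9, 9, 7, 3, 7, 6, 9, 1, 3, 0, 1, 3],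
    [10, 10, 10, 10, 10, 10, 10, 10, 10, 10, 10, 10, 10, 10, 10, 10, 10, 10, 10, 10, 10, 10, 10],
    [0, 6],
    [1, 7],
    [2, 8],
    [3, 9],
    [4, 10],
    [5, 11],
    [6, 0],
    [7, 1],
    [8, 2],
    [9, 3],
    [10, 4],
    [11, 5],
    []]

/-- Their derivations. -/
def relDerivs : List (List Step) :=
  [[([], 0, true)],
  [([], 1, true)],
  [([], 2, true)],
  [([], 3, true)],
  [([], 4, true)],
  [([], 5, true)],
  [([], 6, true)],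
  [([], 7, true)],
  [([], 8, true)],
  [([], 9, true)],
  [([], 10, true)],
  [([], 11, true)],
  [([], 12, true)],
  [([], 13, true)],
  [([], 14, true)],
  [([], 15, true)],
  [([], 16, true)],
  [([], 17, true)],
  [([], 18, true)],
  [([], 19, true)],
  [([], 20, true)],
  [([], 21, true)],
  [([], 22, true)],
  [([], 23, true)],
  [([], 24, true)],
  [([], 25, true)],
  [([], 26, true)],
  [([], 27, true)],
  [([], 28, true)],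
  [([], 29, true)],
  [],
  [],
  [],
  [],
  [],
  [],
  [],
  [],
  [],
  [],
  [],
  [],
  []]

/-- Subgroup words. -/
def subWords : List (List Nat) :=
  [[0],
    [1],
    [2],
    [5]]

/-- The certificate. -/
def step : Signed.Cert :=
  ⟨relWords, subWords, [0, 1, 2, 3, 4, 5, 6, 7, 8, 9, 10, 11], tabF, tabC, tabZ, tabP, 403, 773, 23, 6⟩

end Cfsg.Lib.J4Pres.Lvl1
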